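import Mathlib
import Cfsg.Agent.FH.SG

/-! Fixed points of an automorphism of prime order inside a Frobenius action (helper51). -/

set_option autoImplicit false
set_option maxSynthPendingDepth 3

namespace Cfsg.Agent.NFC
open Module Cfsg.Agent.FT Cfsg.Agent.FT.Rep Cfsg.Agent.PLocal.CommMod Cfsg.Agent.FH Subgroup
open scoped commutatorElement

universe u v

variable {k : Type*} [Field k]

section
variable {W : Type*} [AddCommGroup W] [Module k W] {Γ : Type*} [Group Γ]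

/-- A subgroup centralizing `R` and its fixed vectors acts trivially on weight spaces moved
by `R`. -/
theorem fix_of_moved [Finite Γ] (σ : Γ →* End k W) {Z R S : Subgroup Γ} (hR : (Nat.card R).Prime)
    (hc : ∀ a ∈ Z, ∀ b ∈ Z, Commute (σ a) (σ b)) (hX : R ≤ 𝒩(Z)) (hSZ : S ≤ 𝒩(Z)) (hS : S ≤ 𝒞(R))
    (hcop : (Nat.card S).Coprime (Nat.card R)) (hfix : fix σ R ≤ fix σ S) {χ : Wt Γ k}
    (hχ : ¬ R ≤ MulAction.stabilizer Γ χ) : S ≤ fixer σ (wt σ Z χ) := by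
  classical
  have hfree : ∀ a ∈ R, a • χ = χ → a = 1 := by
    intro a ha h
    by_contra h1
    exact hχ (zpowers_eq_of_card_prime hR ha h1 ▸ Subgroup.zpowers_le.mpr h)
  have := Fintype.ofFinite R
  have hind := wt_indep σ Z hc
  intro s hs v hv
  have h1 := hfix (sum_mem_fix σ R v) s hs
  have hsa : ∀ a ∈ R, a * s = s * a := fun a ha => mem_cent_iff.mp (hS hs) a ha
  have hfree' : ∀ a ∈ R, a • s • χ = s • χ → a = 1 := fun a ha h =>
    hfree a ha (by rwa [← mul_smul, hsa a ha, mul_smul, smul_left_cancel_iff] at h)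
  have h2 : ∀ (u : W) (ψ : Wt Γ k), u ∈ wt σ Z ψ → (∀ a ∈ R, a • ψ = s • χ → a = 1) →
      ∑ a ∈ Finset.univ.erase (1 : R), σ a u ∈ ⨆ j, ⨆ (_ : j ≠ s • χ), wt σ Z j := fun u ψ hu h =>
    Submodule.sum_mem _ fun a ha => Submodule.mem_iSup_of_mem ((a : Γ) • ψ)
      (Submodule.mem_iSup_of_mem (fun e => Finset.ne_of_mem_erase ha (Subtype.ext (h a a.2 e)))
        (apply_mem_wt σ (hX a.2) hu))
  rw [map_sum, Finset.sum_congr rfl (g := fun a : R => σ a (σ s v))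
    fun a _ => by rw [← apply_mul, ← hsa a a.2, apply_mul],
    ← Finset.add_sum_erase _ _ (Finset.mem_univ (1 : R))] at h1
  have hsv := apply_mem_wt σ (hSZ hs) hv
  have h3 := h2 _ _ hsv hfree'
  simp only [OneMemClass.coe_one, map_one, End.one_apply] at h1
  by_cases hcase : ∃ a ∈ R, a • χ = s • χ
  · obtain ⟨a, ha, e⟩ := hcase
    have hfx : (a⁻¹ * s) • χ = χ := by rw [mul_smul, ← e, inv_smul_smul]
    have hpow : (a⁻¹ * s) ^ Nat.card S = a⁻¹ ^ Nat.card S := by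
      rw [Commute.mul_pow (hsa _ (Subgroup.inv_mem _ ha)),
        show s ^ Nat.card S = 1 from congrArg Subtype.val (pow_card_eq_one' (x := (⟨s, hs⟩ : S))),
        mul_one]
    have h4 := hfree _ (Subgroup.pow_mem _ (Subgroup.inv_mem _ ha) (Nat.card S))
      (hpow ▸ (MulAction.stabilizer Γ χ).pow_mem hfx _)
    have h5 : a⁻¹ = 1 := by
      rw [← orderOf_eq_one_iff]
      exact Nat.eq_one_of_dvd_coprimes hcop (orderOf_dvd_of_pow_eq_one h4)
        (orderOf_dvd_natCard R (Subgroup.inv_mem _ ha))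
    rw [inv_eq_one.mp h5, one_smul] at e
    rw [← Finset.add_sum_erase _ _ (Finset.mem_univ (1 : R))] at h1
    simp only [OneMemClass.coe_one, map_one, End.one_apply] at h1
    have h6 := h2 _ _ hv fun a ha h => hfree a ha (h.trans e.symm)
    refine sub_eq_zero.mp ((Submodule.disjoint_def.mp (hind (s • χ))) _
      (Submodule.sub_mem _ hsv (e ▸ hv)) ?_)
    rw [show σ s v - v = _ - _ from sub_eq_sub_iff_add_eq_add.mpr (h1.trans (add_comm _ _))]
    exact Submodule.sub_mem _ h6 h3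
  · push Not at hcase
    have h6 : σ s v = 0 := (Submodule.disjoint_def.mp (hind (s • χ))) _ hsv (by
      rw [eq_sub_of_add_eq h1]
      exact Submodule.sub_mem _ (Submodule.sum_mem _ fun a _ =>
        Submodule.mem_iSup_of_mem ((a : Γ) • χ) (Submodule.mem_iSup_of_mem (hcase a a.2)
          (apply_mem_wt σ (hX a.2) hv))) h3)
    by_cases hv0 : v = 0
    · rw [hv0, map_zero]
    · exact absurd h6 (apply_ne_zero σ s hv0)

/-- The standing hypotheses: `K` a `q`-group acted on by `E R`. -/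
structure Hy (k : Type*) [Field k] (q : ℕ) (K E R : Subgroup Γ) : Prop where
  hq : q.Prime
  pK : IsPGroup q K
  hR : (Nat.card R).Prime
  EK : E ≤ 𝒩(K)
  RK : R ≤ 𝒩(K)
  RE : R ≤ 𝒩(E)
  cKR : (Nat.card K).Coprime (Nat.card R)
  cEK : (Nat.card E).Coprime (Nat.card K)
  cER : (Nat.card E).Coprime (Nat.card R)
  nK : (Nat.card K : k) ≠ 0
  nE : (Nat.card E : k) ≠ 0

theorem Hy.sub {q : ℕ} {K E R L : Subgroup Γ} (h : Hy k q K E R) (hK : K ≤ L) (hE : E ≤ L)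
    (hR : R ≤ L) : Hy k q (K.subgroupOf L) (E.subgroupOf L) (R.subgroupOf L) :=
  ⟨h.hq, So.pgroup L h.pK, So.card hR ▸ h.hR, So.norm L h.EK, So.norm L h.RK, So.norm L h.RE,
    by rw [So.card hK, So.card hR]; exact h.cKR, by rw [So.card hK, So.card hE]; exact h.cEK,
    by rw [So.card hE, So.card hR]; exact h.cER, So.card hK ▸ h.nK, So.card hE ▸ h.nE⟩

theorem Hy.mono [Finite Γ] {q : ℕ} {K E R K' E' : Subgroup Γ} (h : Hy k q K E R) (hK : K' ≤ K)
    (hE : E' ≤ E) (h1 : E' ≤ 𝒩(K')) (h2 : R ≤ 𝒩(K')) (h3 : R ≤ 𝒩(E')) : Hy k q K' E' R :=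
  ⟨h.hq, h.pK.to_le hK, h.hR, h1, h2, h3, cop_le h.cKR hK le_rfl, cop_le h.cEK hE hK,
    cop_le h.cER hE le_rfl, natCast_ne_zero_of_dvd (card_dvd_of_le hK) h.nK,
    natCast_ne_zero_of_dvd (card_dvd_of_le hE) h.nE⟩

/-- The elements of `C_K(R)` acting trivially on the `R`-fixed vectors. -/
def k0 (σ : Γ →* End k W) (K R : Subgroup Γ) : Subgroup Γ := K ⊓ 𝒞(R) ⊓ fixer σ (fix σ R)

theorem k0_le (σ : Γ →* End k W) (K R : Subgroup Γ) : k0 σ K R ≤ K :=
  inf_le_left.trans inf_le_left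

theorem k0_le_cent (σ : Γ →* End k W) (K R : Subgroup Γ) : k0 σ K R ≤ 𝒞(R) :=
  inf_le_left.trans inf_le_right

theorem fix_le_k0 (σ : Γ →* End k W) (K R : Subgroup Γ) : fix σ R ≤ fix σ (k0 σ K R) :=
  le_fixer_iff.mp inf_le_right

theorem norm_k0 (σ : Γ →* End k W) (K R : Subgroup Γ) : K ⊓ 𝒞(R) ≤ 𝒩(k0 σ K R) :=
  norm_inf (le_norm_self _) (le_norm_fixer fun _ hg _ hw => apply_mem_fix σ (cent_le_norm R hg.2) hw)

theorem fix_restr {σ : Γ →* End k W} {L A : Subgroup Γ} {U : Submodule k W}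
    (h : ∀ g ∈ L, ∀ w ∈ U, σ g w ∈ U) (hA : A ≤ L) (h0 : U ⊓ fix σ A = ⊥) :
    fix (restr σ L U h) (A.subgroupOf L) = ⊥ :=
  eq_bot_iff.mpr fun w hw => Subtype.ext (h0.le ⟨w.2, fun a ha =>
    congrArg Subtype.val (hw ⟨a, hA ha⟩ ha)⟩)

theorem k0_restr {σ : Γ →* End k W} {L K R : Subgroup Γ} {U : Submodule k W}
    (h : ∀ g ∈ L, ∀ w ∈ U, σ g w ∈ U) (hK : K ≤ L) (hR : R ≤ L)
    (H : k0 (restr σ L U h) (K.subgroupOf L) (R.subgroupOf L) ≤ (restr σ L U h).ker) :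
    k0 σ K R ≤ fixer σ U := fun c hc w hw => by
  have := H (x := ⟨c, hK hc.1.1⟩) ⟨⟨hc.1.1, So.cent hR ▸ hc.1.2⟩, fun v hv => Subtype.ext
    (hc.2 v fun a ha => congrArg Subtype.val (hv ⟨a, hR ha⟩ ha))⟩
  exact congrArg Subtype.val (LinearMap.congr_fun this ⟨w, hw⟩)

theorem cent_sub {A B L : Subgroup Γ} (hB : B ≤ L) (h : A ⊓ 𝒞(B) = ⊥) :
    A.subgroupOf L ⊓ 𝒞(B.subgroupOf L) = ⊥ := by
  rw [So.cent hB, ← So.inf, h, bot_subgroupOf]

theorem fixR_ne [Finite Γ] (σ : Γ →* End k W) {E R : Subgroup Γ} (hR : (Nat.card R).Prime)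
    (hRE : R ≤ 𝒩(E)) (hn : (Nat.card E : k) ≠ 0) (hC : E ⊓ 𝒞(R) = ⊥) {U : Submodule k W}
    (h1 : ∀ g ∈ E, ∀ w ∈ U, σ g w ∈ U) (h2 : ∀ g ∈ R, ∀ w ∈ U, σ g w ∈ U) (h0 : U ≠ ⊥)
    (h : U ⊓ fix σ E = ⊥) : U ⊓ fix σ R ≠ ⊥ := fun h3 =>
  h0 (inf_eq_left.mpr (rep3_3 σ hRE (semiReg_of_prime hR hC) hn U h1 h2 (disjoint_iff.mpr h3)) ▸ h)

theorem le_ker_of_wt [FiniteDimensional k W] [IsAlgClosed k] {σ : Γ →* End k W} {A S : Subgroup Γ}
    (hc : ∀ a ∈ A, ∀ b ∈ A, Commute (σ a) (σ b)) (hn : (Nat.card A : k) ≠ 0)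
    (h : ∀ χ, wt σ A χ ≠ ⊥ → S ≤ fixer σ (wt σ A χ)) : S ≤ σ.ker := by
  rw [← fix_eq_top_iff_le_ker, eq_top_iff, ← wt_span σ A hc hn]
  refine iSup_le fun χ => ?_
  by_cases h0 : wt σ A χ = ⊥
  · rw [h0]; exact bot_le
  · exact le_fixer_iff.mp (h χ h0)

theorem commute_of_le_ker {σ : Γ →* End k W} {A B : Subgroup Γ} (h : ⁅A, B⁆ ≤ σ.ker) :
    ∀ a ∈ A, ∀ b ∈ B, Commute (σ a) (σ b) := fun a ha b hb =>
  (rep_commutator_eq_one_iff σ a b).mp (h (commutator_mem_commutator ha hb))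

theorem wt_inv (σ : Γ →* End k W) (A : Subgroup Γ) (χ : Wt Γ k) :
    ∀ g ∈ 𝒩(A) ⊓ MulAction.stabilizer Γ χ, ∀ w ∈ wt σ A χ, σ g w ∈ wt σ A χ := fun g hg w hw => by
  have := apply_mem_wt σ hg.1 hw
  rwa [show g • χ = χ from hg.2] at this

theorem wt_inf_fix [Finite Γ] {σ : Γ →* End k W} {A E : Subgroup Γ} (hE : E ≤ 𝒩(A))
    (hc : ∀ a ∈ A, ∀ b ∈ A, Commute (σ a) (σ b)) (hn : (Nat.card E : k) ≠ 0) (h : fix σ E = ⊥)
    (χ : Wt Γ k) : wt σ A χ ⊓ fix σ (E ⊓ MulAction.stabilizer Γ χ) = ⊥ := by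
  by_contra h0
  exact fix_ne_bot_of_wt σ hE hc (natCast_ne_zero_of_dvd (card_dvd_of_le inf_le_left) hn) h0 h

end

theorem repH [IsAlgClosed k] {q : ℕ} (n : ℕ) : ∀ {Γ : Type u} [Group Γ] [Finite Γ] {W : Type v}
    [AddCommGroup W] [Module k W] [FiniteDimensional k W] (σ : Γ →* End k W) {K E R : Subgroup Γ},
    finrank k W = n → Hy k q K E R → E ⊓ 𝒞(R) = ⊥ → fix σ E = ⊥ → k0 σ K R ≤ σ.ker := by
  induction n using Nat.strong_induction_on with | _ n ih => ?_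
  intro Γ _ _ W _ _ _ σ K E R hn h hC hfix
  by_contra hne
  set K0 := k0 σ K R
  have hK0 : K0 ≤ K := k0_le σ K R
  have hv : (⊤ : Submodule k W) ⊓ fix σ R ≠ ⊥ := fixR_ne σ h.hR h.RE h.nE hC (fun _ _ _ _ => trivial)
    (fun _ _ _ _ => trivial) (fun e => hne (fix_eq_top_iff_le_ker.mp
      (top_le_iff.mp (e.le.trans bot_le)))) (by rw [hfix, inf_bot_eq])
  have sc : ∀ A ≤ K, K ≤ 𝒩(A) → E ≤ 𝒩(A) → R ≤ 𝒩(A) → ⁅A, A⁆ ≤ σ.ker →
      A ⊓ K0 ≤ σ.ker ∧ ⁅A, R⁆ ≤ σ.ker := by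
    intro A hA h1 h2 h3 h4
    have hc := commute_of_le_ker h4
    obtain ⟨χ, hχ⟩ : ∃ χ, wt σ A χ = ⊤ := by
      by_contra hall
      push Not at hall
      refine hne (le_ker_of_wt hc (natCast_ne_zero_of_dvd (card_dvd_of_le hA) h.nK) fun χ h0 => ?_)
      by_cases hm : R ≤ MulAction.stabilizer Γ χ
      swap
      · exact fix_of_moved σ h.hR hc h3 (hK0.trans h1) (k0_le_cent σ K R) (cop_le h.cKR hK0 le_rfl)
          (fix_le_k0 σ K R) hm
      set St := MulAction.stabilizer Γ χ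
      have hL := wt_inv σ A χ
      have hE' : E ⊓ St ≤ 𝒩(A) ⊓ St := inf_le_inf_right _ h2
      have hK' : K ⊓ St ≤ 𝒩(A) ⊓ St := inf_le_inf_right _ h1
      have hR' : R ≤ 𝒩(A) ⊓ St := le_inf h3 hm
      have hRS : R ≤ 𝒩(St) := hm.trans (le_norm_self _)
      have hC' : E ⊓ St ⊓ 𝒞(R) = ⊥ := eq_bot_iff.mpr ((inf_le_inf_right _ inf_le_left).trans hC.le)
      have hf := wt_inf_fix h2 hc h.nE hfix χ
      have h' := h.mono (inf_le_left (b := St)) (inf_le_left (b := St))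
        (norm_inf (inf_le_left.trans h.EK) (inf_le_right.trans (le_norm_self _)))
        (norm_inf h.RK hRS) (norm_inf h.RE hRS)
      obtain ⟨v, ⟨hv1, hv2⟩, hv0⟩ := (Submodule.ne_bot_iff _).mp (fixR_ne σ h.hR h'.RE h'.nE hC'
        (fun g hg => hL g (hE' hg)) (fun g hg => hL g (hR' hg)) h0 hf)
      have hst : K0 ≤ St := fun c hc' => by
        by_contra hcχ
        have e := apply_mem_wt σ (h1 (hK0 hc')) hv1
        rw [hc'.2 v hv2] at e
        exact hv0 (Submodule.disjoint_def.mp ((wt_indep σ A hc).pairwiseDisjoint hcχ) v e hv1)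
      exact le_trans (b := k0 σ (K ⊓ St) R) (fun c hc' => ⟨⟨⟨hK0 hc', hst hc'⟩, hc'.1.2⟩, hc'.2⟩)
        (k0_restr hL hK' hR' (ih _ (hn ▸ Submodule.finrank_lt (hall χ)) _ rfl (h'.sub hK' hE' hR')
          (cent_sub hR' hC') (fix_restr hL hE' hf)))
    have hs : ∀ a ∈ A, ∀ w, σ a w = χ a • w := fun a ha w =>
      (show w ∈ wt σ A χ from hχ ▸ Submodule.mem_top).1 a ha
    refine ⟨fun a ha => ?_, commutator_le.mpr fun a ha b _ =>
      (rep_commutator_eq_one_iff σ a b).mpr (LinearMap.ext fun w => ?_)⟩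
    · have := wt_eq_one_of_le_fix (σ := σ) (χ := χ) (B := A ⊓ K0) inf_le_left (fun e => hv
        (eq_bot_iff.mpr ((inf_le_inf hχ.ge ((fix_le_k0 σ K R).trans
          (fix_anti σ inf_le_right))).trans e.le))) a ha
      exact LinearMap.ext fun w => by rw [hs a ha.1, this, one_smul]; rfl
    · rw [End.mul_apply, End.mul_apply, hs a ha, hs a ha, map_smul]
  have nk : ∀ B : Subgroup Γ, B ≤ 𝒩(σ.ker) := fun B => le_normalizer_of_normal
  have key : ∀ T ≤ K, K ≤ 𝒩(T) → E ≤ 𝒩(T) → R ≤ 𝒩(T) → ⁅T, K0⁆ ≤ σ.ker := by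
    intro T
    induction T using WellFoundedLT.induction with | ind T ihT => ?_
    intro hT h1 h2 h3
    by_cases h0 : T = ⊥
    · rw [h0, commutator_bot_left]; exact bot_le
    have hT' : ⁅T, K⁆ ≤ K := comm_le_right (hT.trans (le_norm_self K))
    have n1 := norm_comm h1 (le_norm_self K)
    have n2 := norm_comm h2 h.EK
    have n3 := norm_comm h3 h.RK
    have h4 := ihT _ (comm_lt_pgroup h.hq (h.pK.to_le hT) h.pK h1 h0) hT' n1 n2 n3
    have h5 : ⁅T, K0⁆ ≤ ⁅T, K⁆ ⊓ centMod ⁅T, K⁆ σ.ker := le_inf (commutator_mono le_rfl hK0)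
      ((commutator_mono le_rfl ((le_centMod' (nk _)).mpr h4)).trans
        (comm_le_right (hT.trans (norm_centMod n1 (nk _)))))
    obtain ⟨s1, s2⟩ := sc (⁅T, K⁆ ⊓ centMod ⁅T, K⁆ σ.ker) (inf_le_left.trans hT')
      (norm_inf n1 (norm_centMod n1 (nk _))) (norm_inf n2 (norm_centMod n2 (nk _)))
      (norm_inf n3 (norm_centMod n3 (nk _)))
      ((commutator_mono inf_le_left inf_le_right).trans (comm_centMod_le _ _))
    rw [← Solv.coprime_commutator_sup_centralizer R T h3 (cop_le h.cKR hT le_rfl).symm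
      (Or.inr (solv_pgroup h.hq (h.pK.to_le hT)))]
    refine commutator_sup_le_of_normal (three_subgroups_mod_of_normal ?_ ?_) ?_
    · rw [commutator_comm R, comm_eq_bot_iff.mpr (k0_le_cent σ K R), commutator_bot_left]
      exact bot_le
    · exact (commutator_mono (commutator_comm K0 T ▸ h5) le_rfl).trans s2
    · exact (le_inf ((commutator_mono inf_le_left le_rfl).trans h5)
        (comm_le_right ((inf_le_inf_right _ hT).trans (norm_k0 σ K R)))).trans s1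
  have h1 := key K le_rfl (le_norm_self K) h.EK h.RK
  exact hne ((le_inf (le_inf hK0 ((le_centMod' (nk _)).mpr h1)) le_rfl).trans
    (sc (K ⊓ centMod K σ.ker) inf_le_left
      (norm_inf (le_norm_self K) (norm_centMod (le_norm_self K) (nk _)))
      (norm_inf h.EK (norm_centMod h.EK (nk _))) (norm_inf h.RK (norm_centMod h.RK (nk _)))
      ((commutator_mono inf_le_left inf_le_right).trans (comm_centMod_le _ _))).1)

end Cfsg.Agent.NFC
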