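import Mathlib
import Cfsg.Agent.NFC.RepA

/-! The key proposition for fixed point free actions with a top of prime order (helper51). -/

set_option autoImplicit false
set_option maxSynthPendingDepth 3

namespace Cfsg.Agent.NFC
open Module Cfsg.Agent.FT Cfsg.Agent.FT.Rep Cfsg.Agent.PLocal.CommMod Cfsg.Agent.FH Subgroup
open scoped commutatorElement

universe u v

variable {k : Type*} [Field k]

theorem eq_one_of_inv {Γ : Type*} [Group Γ] {Z E : Subgroup Γ} (hE : E ≤ 𝒩(Z)) (ψ : Γ → k)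
    (hm : ∀ a ∈ Z, ∀ b ∈ Z, ψ (a * b) = ψ a * ψ b) (h1 : ψ 1 = 1)
    (hi : ∀ e ∈ E, ∀ a, ψ (e * a * e⁻¹) = ψ a) : ∀ a ∈ ⁅Z, E⁆, ψ a = 1 := by
  let B : Subgroup Γ :=
    { carrier := {a | a ∈ Z ∧ ψ a = 1}
      mul_mem' := fun ha hb => ⟨Z.mul_mem ha.1 hb.1, by rw [hm _ ha.1 _ hb.1, ha.2, hb.2, one_mul]⟩
      one_mem' := ⟨Z.one_mem, h1⟩
      inv_mem' := fun {a} ha => ⟨Z.inv_mem ha.1, by
        have := hm _ ha.1 _ (Z.inv_mem ha.1)
        rw [mul_inv_cancel, h1, ha.2, one_mul] at this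
        exact this.symm⟩ }
  have : ⁅Z, E⁆ ≤ B := by
    rw [Subgroup.commutator_le]
    intro a ha y hy
    have m : y * a⁻¹ * y⁻¹ ∈ Z := conj_mem_of_mem_normalizer (hE hy) (Z.inv_mem ha)
    rw [show ⁅a, y⁆ = a * (y * a⁻¹ * y⁻¹) by rw [commutatorElement_def]; group]
    exact ⟨Z.mul_mem ha m, by
      rw [hm _ ha _ m, hi y hy, ← hm _ ha _ (Z.inv_mem ha), mul_inv_cancel, h1]⟩
  exact fun a ha => (this ha).2

theorem wt_pow {W : Type*} [AddCommGroup W] [Module k W] {Γ : Type*} [Group Γ]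
    {σ : Γ →* End k W} {A : Subgroup Γ} {χ : Wt Γ k} (h : wt σ A χ ≠ ⊥) {a : Γ} (ha : a ∈ A)
    (n : ℕ) : χ (a ^ n) = χ a ^ n := by
  induction n with
  | zero => rw [pow_zero, pow_zero, wt_one h]
  | succ n ih => rw [pow_succ, wt_mul h (A.pow_mem ha n) ha, ih, pow_succ]

theorem repP [IsAlgClosed k] {q s : ℕ} (hs : s.Prime) (n : ℕ) : ∀ {Γ : Type u} [Group Γ] [Finite Γ]
    {W : Type v} [AddCommGroup W] [Module k W] [FiniteDimensional k W] (σ : Γ →* End k W)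
    {K E R : Subgroup Γ}, finrank k W = n → Hy k q K E R → K ⊓ 𝒞(E) = ⊥ →
    Nat.card ↥(E ⊓ 𝒞(R)) ∣ s → fix σ E = ⊥ → k0 σ K R ≤ σ.ker := by
  classical
  induction n using Nat.strong_induction_on with | _ n ih => ?_
  intro Γ _ _ W _ _ _ σ K E R hn h hC hcs hfix
  set K0 := k0 σ K R
  have hK0 : K0 ≤ K := k0_le σ K R
  have nk : ∀ B : Subgroup Γ, B ≤ 𝒩(σ.ker) := fun B => le_normalizer_of_normal
  set Z := K ⊓ centMod K σ.ker
  have hZK : Z ≤ K := inf_le_left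
  have nZ : ∀ B, B ≤ 𝒩(K) → B ≤ 𝒩(Z) := fun B hB => norm_inf hB (norm_centMod hB (nk _))
  have hc1 := commute_of_le_ker ((commutator_mono le_rfl inf_le_right).trans
    (comm_centMod_le K σ.ker) : ⁅K, Z⁆ ≤ σ.ker)
  have hc : ∀ a ∈ Z, ∀ b ∈ Z, Commute (σ a) (σ b) := fun a ha => hc1 a (hZK ha)
  have hKZ := nZ K (le_norm_self K)
  have hEZ := nZ E h.EK
  have hRZ := nZ R h.RK
  have hmv : ∀ χ, ¬ R ≤ MulAction.stabilizer Γ χ → K0 ≤ fixer σ (wt σ Z χ) := fun χ hm =>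
    fix_of_moved σ h.hR hc hRZ (hK0.trans hKZ) (k0_le_cent σ K R) (cop_le h.cKR hK0 le_rfl)
      (fix_le_k0 σ K R) hm
  have hKw : ∀ χ, ∀ g ∈ K, ∀ w ∈ wt σ Z χ, σ g w ∈ wt σ Z χ := fun χ g hg w hw =>
    apply_mem_wt_of_comm (hc1 g hg) hw
  refine le_ker_of_wt hc (natCast_ne_zero_of_dvd (card_dvd_of_le hZK) h.nK) fun χ h0 => ?_
  by_cases hm : R ≤ MulAction.stabilizer Γ χ
  swap
  · exact hmv χ hm
  set St := MulAction.stabilizer Γ χ
  have hKS : K ≤ St := fun g hg => smul_wt_eq h0 (hKZ hg) (hc1 g hg)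
  have hRS : R ≤ 𝒩(St) := hm.trans (le_norm_self _)
  by_cases hC' : E ⊓ St ⊓ 𝒞(R) = ⊥
  · have hL := wt_inv σ Z χ
    have hE' : E ⊓ St ≤ 𝒩(Z) ⊓ St := inf_le_inf_right _ hEZ
    have hK' : K ≤ 𝒩(Z) ⊓ St := le_inf hKZ hKS
    have hR' : R ≤ 𝒩(Z) ⊓ St := le_inf hRZ hm
    have h' := h.mono le_rfl (inf_le_left (b := St)) (inf_le_left.trans h.EK) h.RK
      (norm_inf h.RE hRS)
    exact k0_restr hL hK' hR' (repH _ _ rfl (h'.sub hK' hE' hR') (cent_sub hR' hC')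
      (fix_restr hL hE' (wt_inf_fix hEZ hc h.nE hfix χ)))
  have hCS : E ⊓ 𝒞(R) ≤ St := by
    have hle : E ⊓ St ⊓ 𝒞(R) ≤ E ⊓ 𝒞(R) := inf_le_inf_right _ inf_le_left
    have h1 := ((Nat.dvd_prime hs).mp ((card_dvd_of_le hle).trans hcs)).resolve_left
      (mt card_eq_one.mp hC')
    exact (eq_of_le_of_card_ge hle (h1 ▸ Nat.le_of_dvd hs.pos hcs)).ge.trans
      (inf_le_left.trans inf_le_right)
  have hoth : ∀ f ∈ E, f • χ ≠ χ → K0 ≤ fixer σ (wt σ Z (f • χ)) := fun f hf hne =>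
    hmv _ fun hm' => by
      obtain ⟨c, hc, hc'⟩ := Solv.coprime_fixed_coset R E h.RE h.cER.symm
        (Or.inl (by have := Fact.mk h.hR; have := isCyclic_of_prime_card (α := R) rfl; infer_instance))
        (E ⊓ St) inf_le_left (norm_inf h.RE hRS) f hf fun a ha =>
          ⟨E.mul_mem (E.inv_mem hf) (conj_mem_of_mem_normalizer (h.RE ha) hf), by
            have e1 : a⁻¹ • χ = χ := hm (R.inv_mem ha)
            have e2 : a • f • χ = f • χ := hm' ha
            change _ • χ = χ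
            rw [mul_smul, mul_smul, mul_smul, e1, e2, inv_smul_smul]⟩
      exact hne (St.inv_mem_iff.mp ((St.mul_mem_cancel_right (hCS hc)).mp hc'.2))
  set U' : Submodule k W := ⨆ f : E, ⨆ (_ : (f : Γ) • χ ≠ χ), wt σ Z ((f : Γ) • χ)
  have hK0U : K0 ≤ fixer σ U' :=
    le_fixer_iff.mpr (iSup₂_le fun f hf => le_fixer_iff.mp (hoth f f.2 hf))
  have hle : ∀ f ∈ E, wt σ Z (f • χ) ≤ wt σ Z χ ⊔ U' := fun f hf => by
    by_cases e : f • χ = χ
    · rw [e]; exact le_sup_left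
    · exact le_sup_of_le_right (le_iSup₂_of_le (⟨f, hf⟩ : E) e le_rfl)
  by_cases htop : wt σ Z χ ⊔ U' = ⊤
  swap
  · have hinv : ∀ g : Γ, (∀ f ∈ E, ∀ w ∈ wt σ Z (f • χ), σ g w ∈ wt σ Z χ ⊔ U') →
        ∀ w ∈ wt σ Z χ ⊔ U', σ g w ∈ wt σ Z χ ⊔ U' := fun g hg => by
      have : wt σ Z χ ⊔ U' ≤ (wt σ Z χ ⊔ U').comap (σ g) :=
        sup_le (fun w hw => hg 1 E.one_mem w (by rwa [one_smul]))
          (iSup₂_le fun f _ w hw => hg f f.2 w hw)
      exact this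
    have hL : ∀ g ∈ K ⊔ E ⊔ R, ∀ w ∈ wt σ Z χ ⊔ U', σ g w ∈ wt σ Z χ ⊔ U' := by
      let B : Subgroup Γ :=
        { carrier := {g | ∀ w, w ∈ wt σ Z χ ⊔ U' ↔ σ g w ∈ wt σ Z χ ⊔ U'}
          mul_mem' := fun {a b} ha hb w => by rw [apply_mul, ← ha, ← hb]
          one_mem' := fun w => by simp
          inv_mem' := fun {a} ha w => by rw [ha (σ a⁻¹ w), apply_apply_inv] }
      have hB : ∀ D : Subgroup Γ, (∀ g ∈ D, ∀ f ∈ E, ∀ w ∈ wt σ Z (f • χ),
          σ g w ∈ wt σ Z χ ⊔ U') → D ≤ B := fun D hD g hg w => ⟨hinv g (hD g hg) w, fun hw => by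
        simpa only [apply_inv_apply] using hinv _ (hD _ (D.inv_mem hg)) _ hw⟩
      have : K ⊔ E ⊔ R ≤ B := sup_le (sup_le (hB K fun g hg f hf w hw => hle f hf (hKw _ g hg w hw))
        (hB E fun g hg f hf w hw => hle _ (E.mul_mem hg hf)
          (mul_smul g f χ ▸ apply_mem_wt σ (hEZ hg) hw)))
        (hB R fun g hg f hf w hw => hle _ (conj_mem_of_mem_normalizer (h.RE hg) hf) (by
          have e1 : g⁻¹ • χ = χ := hm (R.inv_mem hg)
          rw [mul_smul, mul_smul, e1]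
          exact apply_mem_wt σ (hRZ hg) hw))
      exact fun g hg w hw => (this hg w).mp hw
    have hK' : K ≤ K ⊔ E ⊔ R := le_sup_left.trans le_sup_left
    have hE' : E ≤ K ⊔ E ⊔ R := le_sup_right.trans le_sup_left
    have := k0_restr hL hK' le_sup_right (ih _ (hn ▸ Submodule.finrank_lt htop) _ rfl
      (h.sub hK' hE' le_sup_right) (cent_sub hE' hC)
      (by rwa [So.cent le_sup_right, ← So.inf, So.card (inf_le_left.trans hE')])
      (fix_restr hL hE' (by rw [hfix, inf_bot_eq])))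
    exact fun c hc w hw => this hc w (Submodule.mem_sup_left hw)
  have hKU : K ≤ 𝒩(fixer σ U') := le_norm_fixer fun g hg => by
    have : U' ≤ U'.comap (σ g) := iSup₂_le fun f hf w hw =>
      (le_iSup₂_of_le f hf le_rfl : wt σ Z ((f : Γ) • χ) ≤ U') (hKw _ g hg w hw)
    exact this
  have := Fintype.ofFinite E
  let ψ : Γ → k := fun y => ∏ f : E, ((f : Γ) • χ) y
  have hw : ∀ f : E, wt σ Z ((f : Γ) • χ) ≠ ⊥ := fun f => wt_smul_ne_bot σ (hEZ f.2) h0
  have hψ : ∀ y ∈ Z, ψ y = 1 := fun y hy => eq_one_of_inv hEZ ψ (fun a ha b hb => by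
      simp only [ψ, ← Finset.prod_mul_distrib]
      exact Finset.prod_congr rfl fun f _ => wt_mul (hw f) ha hb)
    (Finset.prod_eq_one fun f _ => wt_one (hw f)) (fun e he a => by
      simp only [ψ]
      conv_lhs => rw [← Equiv.prod_comp (Equiv.mulLeft (⟨e, he⟩ : E))]
      refine Finset.prod_congr rfl fun f _ => ?_
      simp only [smul_wt_apply, Equiv.coe_mulLeft, coe_mul]
      congr 1
      group) y (by
      have e := Solv.coprime_commutator_sup_centralizer E Z hEZ (cop_le h.cEK le_rfl hZK)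
        (Or.inr (solv_pgroup h.hq (h.pK.to_le hZK)))
      rw [eq_bot_iff.mpr ((inf_le_inf_right _ hZK).trans hC.le), sup_bot_eq] at e
      exact e.ge hy)
  have key : ∀ T ≤ K ⊓ fixer σ U', K ≤ 𝒩(T) → T ≤ fixer σ (wt σ Z χ) := by
    intro T
    induction T using WellFoundedLT.induction with | ind T ihT => ?_
    intro hT h1
    by_cases hb : T = ⊥
    · rw [hb]; exact bot_le
    have hTK := hT.trans inf_le_left
    have h2 := ihT _ (comm_lt_pgroup h.hq (h.pK.to_le hTK) h.pK h1 hb) ((comm_le_left h1).trans hT)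
      (norm_comm h1 (le_norm_self K))
    have h3 : ⁅T, K⁆ ≤ σ.ker := by
      rw [← fix_eq_top_iff_le_ker, eq_top_iff, ← htop]
      exact sup_le (le_fixer_iff.mp h2)
        (le_fixer_iff.mp ((comm_le_left h1).trans (hT.trans inf_le_right)))
    intro y hy
    have hyZ : y ∈ Z := ⟨hTK hy, (le_centMod.mpr ⟨nk _, h3⟩) hy⟩
    rw [mem_fixer_wt h0 hyZ]
    have h4 := hψ y hyZ
    simp only [ψ] at h4
    rw [← Finset.prod_filter_mul_prod_filter_not _ (fun f : E => (f : Γ) • χ = χ),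
      Finset.prod_eq_one (s := Finset.univ.filter fun f : E => ¬ (f : Γ) • χ = χ) fun f hf =>
        (mem_fixer_wt (hw f) hyZ).mp fun w hw => (hT hy).2 w
          ((le_iSup₂_of_le f (Finset.mem_filter.mp hf).2 le_rfl : wt σ Z ((f : Γ) • χ) ≤ U') hw),
      mul_one, Finset.prod_congr rfl (g := fun _ => χ y)
        fun f hf => by rw [(Finset.mem_filter.mp hf).2], Finset.prod_const] at h4
    have h5 : (Finset.univ.filter fun f : E => (f : Γ) • χ = χ).card = Nat.card ↥(E ⊓ St) := by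
      rw [← Fintype.card_subtype, ← Nat.card_eq_fintype_card]
      exact Nat.card_congr ⟨fun a => ⟨a.1, a.1.2, a.2⟩, fun a => ⟨⟨a.1, a.2.1⟩, a.2.2⟩,
        fun _ => rfl, fun _ => rfl⟩
    have h6 : χ y ^ Nat.card K = 1 := by
      rw [← wt_pow h0 hyZ, show y ^ Nat.card K = 1 from
        congrArg Subtype.val (pow_card_eq_one' (x := (⟨y, hTK hy⟩ : K))), wt_one h0]
    rw [h5] at h4
    exact (pow_eq_one_iff_of_coprime (cop_le h.cEK inf_le_left le_rfl)).mp ⟨h4, h6⟩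
  exact (le_inf hK0 hK0U).trans (key _ le_rfl (norm_inf (le_norm_self K) hKU))

end Cfsg.Agent.NFC
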