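import Mathlib
import Cfsg.Agent.NFC.RepB
import Cfsg.Agent.FH.Quot
import Cfsg.Agent.FT.BG3_8
import Cfsg.Agent.Solv.CoprimeSylow
import Cfsg.Agent.Grp.Fitting

/-! Fitting subgroup and height of `C_X(R)` under a fixed point free action of `F R` (helper51). -/

set_option autoImplicit false
set_option maxSynthPendingDepth 3

namespace Cfsg.Agent.NFC
open Module Cfsg.Agent.FT Cfsg.Agent.FT.Rep Cfsg.Agent.PLocal.CommMod Cfsg.Agent.FH Subgroup
open scoped commutatorElement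

universe u

variable {G : Type u} [Group G]

/-- `F R` acts coprimely on the solvable group `X`, `C_X(F) = 1`, `|C_F(R)|` divides `s`. -/
structure XH (s : ℕ) (X F R : Subgroup G) : Prop where
  hs : s.Prime
  hR : (Nat.card R).Prime
  sF : Group.IsSolvable F
  RF : R ≤ 𝒩(F)
  RX : R ≤ 𝒩(X)
  FX : F ≤ 𝒩(X)
  cRX : (Nat.card R).Coprime (Nat.card X)
  cFX : (Nat.card F).Coprime (Nat.card X)
  cFR : (Nat.card F).Coprime (Nat.card R)
  CF : X ⊓ 𝒞(F) = ⊥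
  CR : Nat.card ↥(F ⊓ 𝒞(R)) ∣ s
  sol : Group.IsSolvable X

variable [Finite G]

theorem nil_syl {D B N : Subgroup G} (hD : Group.IsNilpotent D) (hB : B ≤ 𝒩(D))
    (h : ∀ (q : ℕ) (Q : Subgroup G), q.Prime → IsPGroup q Q → Q ≤ D → B ≤ 𝒩(Q) → Q ≤ N) :
    D ≤ N := by
  refine Solv.le_of_forall_sylow_le D N fun p hp => ?_
  obtain ⟨P⟩ : Nonempty (Sylow p D) := inferInstance
  have hn : (P : Subgroup D).Normal := Grp.isNilpotent_iff_forall_sylow_normal.mp hD p hp P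
  refine ⟨P, h p _ hp.out (P.2.map _) (map_subtype_le _) fun a ha => ?_⟩
  obtain ⟨c, hc, h1⟩ := Solv.sylow_frattini_ambient P (hB ha)
  simpa using mul_mem ((normIn_map_subtype (P : Subgroup D)).norm hc) h1

theorem Sec.inf_le {l q : ℕ} {V N L Q : Subgroup G} (h : Sec l V N L) (hq : q.Prime) (hlq : l ≠ q)
    (hQ : IsPGroup q Q) : V ⊓ Q ≤ N := fun x hx => by
  have := zpowers_pow_eq (x := x) (k := l) (((Nat.Prime.coprime_iff_not_dvd h.prime).mpr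
    (not_dvd_pgroup h.prime hq hlq hQ)).symm.coprime_dvd_left (orderOf_dvd_natCard Q hx.2))
  exact zpowers_le.mpr (h.pow x hx.1) (this.ge (mem_zpowers x))

namespace XH
variable {s : ℕ} {X F R : Subgroup G} (h : XH s X F R)
include h

theorem sR : Group.IsSolvable R := by
  have := Fact.mk h.hR
  have := isCyclic_of_prime_card (α := R) rfl
  infer_instance

theorem exists_syl {q : ℕ} (hq : q.Prime) {Q : Subgroup G} (hQ : IsPGroup q Q) (h1 : Q ≤ X ⊓ 𝒞(R))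
    (h2 : X ⊓ 𝒞(R) ≤ 𝒩(Q)) : 
    ∃ P : Subgroup G, IsPGroup q P ∧ Q ≤ P ∧ P ≤ X ∧ F ≤ 𝒩(P) ∧ R ≤ 𝒩(P) := by
  have := Fact.mk hq
  obtain ⟨P, hP⟩ := Solv.exists_invariant_sylow (R ⊔ F) X (sup_le h.RX h.FX)
    ((h.cRX.mul_left h.cFX).coprime_dvd_left (Grp.card_sup_dvd_of_le_normalizer h.RF))
    (Or.inr h.sol) q
  obtain ⟨P', h3, h4⟩ := Solv.exists_invariant_sylow_ge R X h.RX h.cRX (Or.inr h.sol) q Q
    (h1.trans inf_le_left) hQ (le_norm_of_le_cent (le_cent_comm.mp (h1.trans inf_le_right)))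
  obtain ⟨c, hc, e⟩ := Solv.invariant_sylow_conj R X h.RX h.cRX (Or.inr h.sol) q P' P h4
    (le_sup_left.trans hP)
  refine ⟨_, P.2.map _, fun x hx => ?_, map_subtype_le _, le_sup_right.trans hP,
    le_sup_left.trans hP⟩
  rw [← e, Sylow.coe_subgroup_smul, Solv.map_subtype_conj_smul, Solv.mem_conj_smul_iff]
  exact h3 (conj_mem_of_mem_normalizer' (h2 ⟨c.2, hc⟩) hx)

theorem sec {l q : ℕ} {V N L Q : Subgroup G} (hV : Sec l V N L) (hVX : V ≤ X) (hX : X ≤ L)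
    (hF : F ≤ L) (hR : R ≤ L) (hq : q.Prime) (hlq : l ≠ q) (hQ : IsPGroup q Q)
    (h1 : Q ≤ X ⊓ 𝒞(R)) (h2 : X ⊓ 𝒞(R) ≤ 𝒩(Q)) : ⁅V, Q⁆ ≤ N := by
  have hQL := h1.trans (inf_le_left.trans hX)
  by_cases hVN : V ≤ N
  · exact (comm_le_left (hQL.trans hV.LV)).trans hVN
  have := Fact.mk hV.prime
  obtain ⟨P, p1, p2, p3, p4, p5⟩ := h.exists_syl hq hQ h1 h2
  have hPL := p3.trans hX
  have hl : l ∣ Nat.card X := by
    by_contra hl; exact hV.ne_of_not_dvd hVN hVX hl rfl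
  obtain ⟨W, i1, i2, i3, σ, -, -, -, c3, c4, c5⟩ := hV.rep
  have hy : Hy (AlgebraicClosure (ZMod l)) q P F R :=
    ⟨hq, p1, h.hR, p4, p5, h.RF, (cop_le h.cRX le_rfl p3).symm, cop_le h.cFX le_rfl p3, h.cFR,
      So.natCast_ne_zero _ (not_dvd_pgroup hV.prime hq hlq p1), So.natCast_ne_zero _ fun hd =>
        hV.prime.one_lt.ne' (Nat.eq_one_of_dvd_coprimes h.cFX hd hl)⟩
  have key := repP h.hs _ σ rfl (hy.sub hPL hF hR)
    (cent_sub hF (eq_bot_iff.mpr ((inf_le_inf_right _ p3).trans h.CF.le)))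
    (by rw [So.cent hR, ← So.inf, So.card (inf_le_left.trans hF)]; exact h.CR)
    ((c4 F hF).mpr (fix_sec hV.le hVX (hF.trans hV.LN) h.cFX (Or.inr h.sol) h.CF))
  refine (c3 Q hQL).mp (fix_eq_top_iff_le_ker.mpr (le_trans (le_inf (le_inf (comap_mono p2) ?_)
    (le_fixer_iff.mpr (c5 R hR Q hQL ?_))) key))
  · rw [So.cent hR]; exact comap_mono (h1.trans inf_le_right)
  · refine (inf_centMod_le_sup hV.le (hR.trans hV.LN) (cop_le h.cRX le_rfl (hV.le.trans hVX))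
      (Or.inl h.sR)).trans (sup_le (le_centMod.mpr ⟨inf_le_left.trans hV.norm, ?_⟩)
        (le_centMod_self (hQL.trans hV.LN)))
    exact (le_inf ((commutator_mono inf_le_left le_rfl).trans (comm_le_left (hQL.trans hV.LV)))
      (comm_le_right ((inf_le_inf_right _ hVX).trans h2))).trans (Sec.inf_le hV hq hlq hQ)

theorem nil_le {D : Subgroup G} (hD : Group.IsNilpotent D) (h1 : D ≤ X ⊓ 𝒞(R))
    (h2 : X ⊓ 𝒞(R) ≤ 𝒩(D)) : ∃ Y, D ≤ Y ∧ Y ≤ X ∧ X ⊔ F ⊔ R ≤ 𝒩(Y) ∧ Group.IsNilpotent Y := by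
  have hLX : X ⊔ F ⊔ R ≤ 𝒩(X) := sup_le (sup_le (le_norm_self X) h.FX) h.RX
  obtain ⟨Y, ⟨y1, y2, y3⟩, hmin⟩ := (wellFounded_lt (α := Subgroup G)).has_min
    {Y | D ≤ Y ∧ Y ≤ X ∧ X ⊔ F ⊔ R ≤ 𝒩(Y)} ⟨X, h1.trans inf_le_left, le_rfl, hLX⟩
  refine ⟨Y, y1, y2, y3, res_eq_bot_iff.mp ?_⟩
  by_contra hne
  have hX : X ≤ X ⊔ F ⊔ R := le_sup_left.trans le_sup_left
  obtain ⟨l, N, a1, -, a3, a4⟩ := chief_res (isSolvable_of_le y2 h.sol) (y2.trans hX) y3
    (le_top.trans norm_bot.ge) (mt le_bot_iff.mp hne)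
  have hD' : D ≤ centMod (res Y) N := nil_syl hD h2 fun q Q hq hQ hQD hn => by
    rw [le_centMod' ((hQD.trans (y1.trans (y2.trans hX))).trans a1.LN)]
    by_cases hlq : l = q
    · exact a4 Q (hQD.trans y1) (hlq ▸ hQ)
    · exact h.sec a1 ((res_le Y).trans y2) hX (le_sup_right.trans le_sup_left) le_sup_right hq hlq
        hQ (hQD.trans h1) hn
  have := (inf_le_left (a := Y) (b := centMod (res Y) N)).lt_or_eq.resolve_left
    (hmin _ ⟨le_inf y1 hD', inf_le_left.trans y2, norm_inf y3 a1.norm_cm⟩)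
  exact a3 ((le_centMod' ((y2.trans hX).trans a1.LN)).mp (inf_eq_left.mp this))

end XH

theorem height {s : ℕ} (n : ℕ) : ∀ {G : Type u} [Group G] [Finite G] {X F R : Subgroup G},
    XH s X F R → (¬ ∃ m, Nat.card R = 2 ^ m + 1) → F ≤ ⁅F, R⁆ → resN n (X ⊓ 𝒞(R)) = ⊥ →
    resN n X = ⊥ := by
  induction n with
  | zero =>
    intro G _ _ X F R h hr hF hC
    have := hall_higman_solv h.hR h.RF h.cFR (fun _ _ _ e => absurd e hr) X h.sol h.FX h.RX h.cFX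
      h.cRX hC
    exact (inf_eq_left.mpr (le_cent_comm.mp (hF.trans this))).symm.trans h.CF
  | succ n ih =>
    intro G _ _ X F R h hr hF hC
    obtain ⟨Y, y1, y2, y3, y4⟩ := h.nil_le (res_eq_bot_iff.mp ((resN_succ n _).symm.trans hC)) (resN_le n _)
      (norm_resN n (le_norm_self _))
    have hX : X ≤ X ⊔ F ⊔ R := le_sup_left.trans le_sup_left
    have hF' : F ≤ X ⊔ F ⊔ R := le_sup_right.trans le_sup_left
    have hR : R ≤ X ⊔ F ⊔ R := le_sup_right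
    have hY := y2.trans hX
    have := NormIn.normal (H := Y) ⟨hY, y3⟩
    have e : Nat.card (qt (X ⊔ F ⊔ R) Y R) = Nat.card R := Qt.card_of_disjoint hR
      (disjoint_iff.mp (disjoint_of_coprime_natCard (cop_le h.cRX le_rfl y2).symm))
    have e1 := qt_inf_cent_eq (N := Y) hR hX h.RX hY h.cRX (Or.inr h.sol)
    have h' : XH s (qt (X ⊔ F ⊔ R) Y X) (qt (X ⊔ F ⊔ R) Y F) (qt (X ⊔ F ⊔ R) Y R) :=
      ⟨h.hs, e ▸ h.hR, Qt.solvable hF' h.sF, Qt.norm h.RF, Qt.norm h.RX, Qt.norm h.FX,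
        Qt.coprime hR hX h.cRX, Qt.coprime hF' hX h.cFX, Qt.coprime hF' hR h.cFR,
        by rw [← qt_inf_cent_eq hF' hX h.FX hY h.cFX (Or.inr h.sol), h.CF, Qt.eq_bot_of_le bot_le],
        by rw [← qt_inf_cent_eq hR hF' h.RF hY h.cFR.symm (Or.inr h.sF)]
           exact (Qt.card_dvd (inf_le_left.trans hF')).trans h.CR,
        Qt.solvable hX h.sol⟩
    have h3 := ih h' (by rwa [e]) (by rw [← Qt.qt_comm hF' hR]; exact Qt.mono hF)
      (by rw [← e1, ← qt_resN n (inf_le_left.trans hX)]; exact Qt.eq_bot_of_le y1)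
    rw [← qt_resN n hX, Qt.eq_bot_iff' ((resN_le n X).trans hX)] at h3
    rw [resN_succ]
    exact res_eq_bot_iff.mpr (isNilpotent_of_le h3 y4)

end Cfsg.Agent.NFC
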